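import Cfsg.Agent.H794.Imc
import Cfsg.Agent.H477.HC.Arith_m3
import Cfsg.Agent.H113.PSU.Rank3_m3
import Cfsg.Agent.Characters.GaloisBasic
import Cfsg.Agent.H766.PQ.A01_m3
import Cfsg.Agent.Prune
set_option linter.all false

section
prune_inst 0x7fbffffaffaeffffdfff7e3fffd9dff833c2cfffe6dffb43ffe1ebbfdfbf13b739cd6bad9de0f0ffdef7e29c10b87843fb7eeeffec6fdc7ffffdfff41ffbee4ff5f7b78971d48c340fbc2fff03f377ce6f3ffffffffffffffffffffffffffffffffffbfeffff

-- part: H794/ImcDown
section
set_option linter.all false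
open scoped Cfsg.Agent.FastGrp

/-!
# Descent of `P`-fixed vectors to normal subgroups and quotients (helper794)

* `imc_of_char` : a character with a `P`-fixed vector all of whose constituents have degree divisible by `p`;
* `exists_constituent_fix` : a constituent on a normal subgroup with a fixed vector;
* `imc_quot` : `χ ∈ Irr I` with `Z` in its kernel gives `IMC p (I ⧸ Z)`;
* `imc_down` : `χ ∈ Irr I`, `N ⊴ I`, gives `IMC p (N ⧸ Z(N))`.
-/

set_option autoImplicit false

open Cfsg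
open scoped ComplexConjugate

namespace Cfsg.Agent.H794.Imc

open Cfsg.Agent.H625.SylConst Cfsg.Agent.Characters.Core

universe u

variable {G : Type u} [Group G] [Finite G] {p : ℕ} [hp : Fact p.Prime]

/-- a constituent with a fixed vector -/
theorem exists_fix_of_char (P : Subgroup G) {Φ : G → ℂ} (hΦ : IsCharacter G Φ) (hf : Fix P Φ) [Fintype G] :
    ∃ χ : IrrCharacter G, classInner Φ (χ : G → ℂ) ≠ 0 ∧ Fix P (χ : G → ℂ) := by
  classical
  have := Fintype.ofFinite P
  have : Finite (IrrCharacter G) := finite_irr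
  let _ : Fintype (IrrCharacter G) := Fintype.ofFinite _
  obtain ⟨m, hm⟩ := isCharacter_iff.1 hΦ
  rw [fix_iff] at hf
  have h1 : ∑ z : P, Φ (z : G) = ∑ χ : IrrCharacter G, (m χ : ℂ) * ∑ z : P, (χ : G → ℂ) (z : G) := by
    simp_rw [Finset.mul_sum]
    rw [Finset.sum_comm]
    refine Finset.sum_congr rfl fun z _ => ?_
    rw [hm, Finset.sum_apply]
    refine Finset.sum_congr rfl fun χ _ => ?_
    rw [Pi.smul_apply, nsmul_eq_mul]
  rw [h1] at hf
  obtain ⟨χ, -, hχ⟩ := Finset.exists_ne_zero_of_sum_ne_zero hf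
  refine ⟨χ, ?_, (fix_iff _ _).2 (right_ne_zero_of_mul hχ)⟩
  have e1 : classInner Φ (χ : G → ℂ) = m χ := by
    rw [hm]; exact classInner_sum_nsmul_irr m χ
  rw [e1]
  exact left_ne_zero_of_mul hχ

/-- restriction to a subgroup preserves fixed vectors of the smaller group -/
theorem fix_res {N : Subgroup G} (Q : Subgroup N) {χ : G → ℂ} (h : Fix (Q.map N.subtype) χ) :
    Fix Q (χ ∘ N.subtype) := by
  classical
  have := Fintype.ofFinite Q
  have := Fintype.ofFinite (Q.map N.subtype)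
  rw [fix_iff] at h ⊢
  intro h0
  apply h
  rw [← h0]
  let e := (Q.equivMapOfInjective N.subtype N.subtype_injective)
  refine (Fintype.sum_equiv e.toEquiv _ _ fun z => ?_).symm
  rfl

/-- images of fixed vectors -/
theorem fix_map {H : Type*} [Group H] [Finite H] (f : G →* H) (P : Subgroup G) {χ : H → ℂ}
    (h : Fix P (χ ∘ f)) : Fix (P.map f) χ := by
  classical
  have := Fintype.ofFinite P
  have := Fintype.ofFinite (P.map f)
  rw [fix_iff] at h ⊢
  intro h0
  apply h
  let g : P →* P.map f := f.subgroupMap P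
  have hg : Function.Surjective g := f.subgroupMap_surjective P
  have h1 := Cfsg.Agent.H53.HC.sum_comp_hom g hg (fun q : P.map f => χ (q : H))
  have h2 : ∑ z : P, (χ ∘ f) (z : G) = ∑ z : P, (fun q : P.map f => χ (q : H)) (g z) :=
    Finset.sum_congr rfl fun z _ => rfl
  rw [h2, h1, h0]
  simp

theorem imc_quot (Z : Subgroup G) [Z.Normal] (Q : Sylow p G) {χ : G → ℂ} (hχ : IsIrrCharacter G χ)
    (hz : ∀ z ∈ Z, χ z = χ 1) (hd : p ∣ charDegree χ) (hf : Fix (Q : Subgroup G) χ) : IMC p (G ⧸ Z) := by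
  obtain ⟨η, hη, hη'⟩ := Cfsg.Agent.H477.HC.exists_quot Z hχ hz
  have e : χ = η ∘ QuotientGroup.mk' Z := by
    funext n
    exact (hη' n).symm
  refine ⟨⟨η, hη⟩, Q.mapSurjective (QuotientGroup.mk'_surjective Z), ?_, ?_⟩
  · have h1 : charDegree η = charDegree χ := by
      unfold charDegree
      rw [e, Function.comp_apply, map_one]
    show p ∣ charDegree η
    rwa [h1]
  · rw [e] at hf
    have h2 := fix_map (QuotientGroup.mk' Z) (Q : Subgroup G) hf
    exact h2

/-- a constituent on a normal subgroup with a fixed vector -/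
theorem exists_constituent_fix (N : Subgroup G) [N.Normal] {χ : G → ℂ} (hχ : IsIrrCharacter G χ) {d : ℕ}
    (hd : χ 1 = d) (Q : Subgroup N) (hf : Fix (Q.map N.subtype) χ) :
    ∃ (θ : N → ℂ) (e : ℕ), IsIrrCharacter N θ ∧ θ 1 = e ∧ e ∣ d ∧ d / e ∣ N.index ∧ 0 < e ∧ Fix Q θ ∧
      ∀ z : N, z ∈ Subgroup.center N → χ z = χ 1 → θ z = θ 1 := by
  classical
  let _ : Fintype G := Fintype.ofFinite G
  let _ : Fintype N := Fintype.ofFinite N
  have hα : IsCharacter N (χ ∘ N.subtype) := isCharacter_comp N.subtype (isIrr_isCharacter hχ)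
  obtain ⟨θ', hθ', hfθ⟩ := exists_fix_of_char Q hα (fix_res Q hf)
  obtain ⟨θ, hθ⟩ := θ'
  obtain ⟨e, he0, he⟩ := isIrr_apply_one hθ
  obtain ⟨h3, h4⟩ := Cfsg.Agent.S0887.result N χ hχ θ hθ hθ' d e hd he
  refine ⟨θ, e, hθ, he, h3, h4, he0, hfθ, fun z hzc hzχ => ?_⟩
  obtain ⟨l, hl⟩ := Cfsg.Agent.H477.HC.central_mul hθ hzc
  have e0 : ∑ n : N, (χ ∘ N.subtype) n * conj (θ n) = conj l * ∑ n : N, (χ ∘ N.subtype) n * conj (θ n) := by
    calc ∑ n : N, (χ ∘ N.subtype) n * conj (θ n)
        = ∑ n : N, (χ ∘ N.subtype) (n * z) * conj (θ (n * z)) :=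
          (Equiv.sum_comp (Equiv.mulRight z) (fun n => (χ ∘ N.subtype) n * conj (θ n))).symm
      _ = _ := by
          rw [Finset.mul_sum]
          refine Finset.sum_congr rfl fun n _ => ?_
          have h5 : (χ ∘ N.subtype) (n * z) = (χ ∘ N.subtype) n := Cfsg.Agent.H477.HC.kernel_mul hα (by
            change χ z = χ 1
            exact hzχ) n
          rw [hl, map_mul, h5]
          ring
  have e1 : classInner (χ ∘ N.subtype) θ = conj l * classInner (χ ∘ N.subtype) θ := by
    rw [classInner_def, mul_left_comm, ← e0]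
  have e2 : conj l = 1 := by
    have h6 : (conj l - 1) * classInner (χ ∘ N.subtype) θ = 0 := by
      rw [sub_mul, one_mul, ← e1, sub_self]
    exact sub_eq_zero.1 ((mul_eq_zero.1 h6).resolve_right hθ')
  have e3 : l = 1 := by
    have h6 := congrArg conj e2
    rwa [Complex.conj_conj, map_one] at h6
  have h6 := hl 1
  rwa [one_mul, e3, one_mul] at h6

/-- **descent to `N / Z(N)`** -/
theorem imc_down (N : Subgroup G) [N.Normal] {χ : G → ℂ} (hχ : IsIrrCharacter G χ)
    {d : ℕ} (hd : χ 1 = d) (hz : ∀ z : N, z ∈ Subgroup.center N → χ z = χ 1) {a : ℕ}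
    (h1 : p ^ a ∣ d) (h2 : ¬ p ^ a ∣ N.index) (Q : Sylow p N)
    (hf : Fix ((Q : Subgroup N).map N.subtype) χ) : IMC p (N ⧸ Subgroup.center N) := by
  obtain ⟨θ, e, hθ, he, h3, h4, h5, h7, h6⟩ := exists_constituent_fix N hχ hd (Q : Subgroup N) hf
  refine imc_quot (Subgroup.center N) Q hθ (fun z hzc => h6 z hzc (hz z hzc)) ?_ h7
  have h8 : charDegree θ = e := Cfsg.Agent.H670.PSing.charDegree_eq_of he
  rw [h8]
  by_contra hre
  have h9 : p ^ a ∣ d / e := by
    obtain ⟨f, rfl⟩ := h3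
    rw [Nat.mul_div_cancel_left _ h5]
    exact (Nat.Coprime.pow_left a ((Nat.Prime.coprime_iff_not_dvd hp.out).2 hre)).dvd_of_dvd_mul_left h1
  exact h2 (h9.trans h4)

/-- normal subgroups -/
theorem imc_normal (N : Subgroup G) [N.Normal] {χ : G → ℂ} (hχ : IsIrrCharacter G χ)
    {d : ℕ} (hd : χ 1 = d) {a : ℕ} (h1 : p ^ a ∣ d) (h2 : ¬ p ^ a ∣ N.index) (Q : Sylow p N)
    (hf : Fix ((Q : Subgroup N).map N.subtype) χ) : IMC p N := by
  obtain ⟨θ, e, hθ, he, h3, h4, h5, h7, -⟩ := exists_constituent_fix N hχ hd (Q : Subgroup N) hf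
  refine ⟨⟨θ, hθ⟩, Q, ?_, h7⟩
  have h8 : charDegree θ = e := Cfsg.Agent.H670.PSing.charDegree_eq_of he
  show p ∣ charDegree θ
  rw [h8]
  by_contra hre
  have h9 : p ^ a ∣ d / e := by
    obtain ⟨f, rfl⟩ := h3
    rw [Nat.mul_div_cancel_left _ h5]
    exact (Nat.Coprime.pow_left a ((Nat.Prime.coprime_iff_not_dvd hp.out).2 hre)).dvd_of_dvd_mul_left h1
  exact h2 (h9.trans h4)

end Cfsg.Agent.H794.Imc
end

-- part: H968/Imc/RankThreeFix
section
prune_inst 0x10000000000200000000004000200000000400000000040200000000008111000000200000000000000000000000000000000000000000000000002000000000000000000000000000000000000000000000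
set_option linter.all false
open scoped Cfsg.Agent.FastGrp

/-!
# `IMC p G` from a rank 3 action (helper968)

`G` acts on `X`, `|X| = n = 1 + k + l`, with rank 3 (`R3 G X R k l`), eigenvalues `k, r, s` of the relation `R`, `χ` the
character of the `r`-eigenspace, `P` a subgroup. If `χ|P` does not contain the trivial character then every
`P`-invariant function is a sum of a constant and an `s`-eigenfunction, hence `|R(x) ∩ O| = (k - s) |O| / n` for every
`P`-orbit `O` and every point `x` outside of `O`. So `n ∣ (k - s) |P|` if there are two orbits.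

* `dvd_of_not_fix` : this fact;
* `imc_of_r3` : `IMC p G` by a check `chk k l p e = true` of the parameters; the degree of the action may be divisible
  by `p`.
-/

set_option autoImplicit false
set_option linter.unusedSectionVars false

namespace Cfsg.Agent.H968.Imc

open Cfsg Cfsg.Agent.Characters.Core Cfsg.Agent.H625.SylConst Cfsg.Agent.H690.Spor.RankThree
open Cfsg.Agent.H690.Spor.RankThree.R3
open scoped ComplexConjugate

universe u v

variable {G : Type u} {X : Type v} [Group G] [MulAction G X] {R : X → X → Prop} {k l : ℕ}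

section fixed

variable [Fintype X] [DecidableEq X] [DecidableRel R]

/-- the character of the `r`-eigenspace is irreducible -/
theorem exists_irr [Finite G] (h : R3 G X R k l) {a b : ℕ} (hab : ∀ x y, ∑ z, adj R x z * adj R z y =
    (k - b : ℂ) * dia x y + (a - b : ℂ) * adj R x y + b) {r s : ℤ} (hrs : r ≠ s) (h1 : r + s = a - b)
    (h2 : r * s = b - k) : ∃ (χ : IrrCharacter G) (f : ℕ),
      (∀ g, (χ : G → ℂ) g = ∑ x : X, ker R k (Nat.card X) (r : ℂ) (s : ℂ) x (g • x)) ∧ (χ : G → ℂ) 1 = f ∧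
      (f : ℤ) * (r - s) = -(s * (k + l) + k) := by
  have := Fintype.ofFinite G
  have hp := h.params_eq hab
  have hn := h.cardn
  have hrsC : (r : ℂ) ≠ s := by exact_mod_cast hrs
  have h1C : (r : ℂ) + s = a - b := by exact_mod_cast h1
  have h2C : (r : ℂ) * s = b - k := by exact_mod_cast h2
  have hd0 : (r : ℂ) - s ≠ 0 := sub_ne_zero.2 hrsC
  have hchar : ∀ u v : ℂ, u ≠ v → u + v = a - b → u * v = b - k →
      IsCharacter G (fun g : G => ∑ x : X, ker R k (Nat.card X) u v x (g • x)) := by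
    intro u v huv h3 h4
    exact Cfsg.Agent.H651.isCharacter_sum_perm (MulAction.toPermHom G X) (ker R k (Nat.card X) u v)
      (h.ker_mul hab huv h3 h4) (fun g x y => h.ker_smul _ u v g x y)
  have hc1 := hchar r s hrsC h1C h2C
  have hc2 := hchar s r hrsC.symm (by rw [add_comm]; exact h1C) (by rw [mul_comm]; exact h2C)
  set θ₁ : G → ℂ := fun g : G => ∑ x : X, ker R k (Nat.card X) (r : ℂ) (s : ℂ) x (g • x) with hθ₁
  set θ₂ : G → ℂ := fun g : G => ∑ x : X, ker R k (Nat.card X) (s : ℂ) (r : ℂ) x (g • x) with hθ₂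
  have hnC : (Nat.card X : ℂ) ≠ 0 := by
    have : Nat.card X ≠ 0 := by omega
    exact_mod_cast this
  have hval : ∀ u v : ℂ, ∀ g : G, ∑ x : X, ker R k (Nat.card X) u v x (g • x) =
      (u - v)⁻¹ * (∑ x : X, adj R x (g • x) - v * (Nat.card (MulAction.fixedBy X g) : ℂ) - (k - v)) := by
    intro u v g
    unfold ker
    rw [← Finset.mul_sum, Finset.sum_sub_distrib, Finset.sum_sub_distrib, ← Finset.mul_sum, sum_dia_smul,
      Finset.sum_const, Finset.card_univ, ← Nat.card_eq_fintype_card, nsmul_eq_mul]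
    congr 2
    field_simp
  have h3' : ((s : ℂ) - r)⁻¹ = -((r : ℂ) - s)⁻¹ := by rw [← neg_sub, inv_neg]
  have h4' : ((r : ℂ) - s)⁻¹ * ((r : ℂ) - s) = 1 := inv_mul_cancel₀ hd0
  have hsum : (fun g : G => (Nat.card (MulAction.fixedBy X g) : ℂ) - 1) = θ₁ + θ₂ := by
    funext g
    show _ = θ₁ g + θ₂ g
    rw [hθ₁, hθ₂]
    simp only [hval]
    rw [h3']
    linear_combination (-(Nat.card (MulAction.fixedBy X g) : ℂ) + 1) * h4'
  have hnorm := h.norm_two (G := G)
  rw [hsum, classInner_add_left, classInner_add_right, classInner_add_right] at hnorm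
  have hone : ∑ x : X, adj R x ((1 : G) • x) = 0 := by
    refine Finset.sum_eq_zero fun x _ => ?_
    unfold adj
    rw [one_smul, if_neg (h.irr x)]
  have hfix1 : Nat.card (MulAction.fixedBy X (1 : G)) = Nat.card X := by
    rw [MulAction.fixedBy_one_eq_univ]
    exact Nat.card_univ
  have hn' : (Nat.card X : ℂ) = 1 + k + l := by exact_mod_cast hn
  have hdeg1 : θ₁ 1 * ((r : ℂ) - s) = -(s * (k + l) + k) := by
    rw [hθ₁]
    simp only [hval]
    rw [hone, hfix1, hn']
    linear_combination (0 - (s : ℂ) * (1 + k + l) - (k - s)) * h4'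
  have hdeg2 : θ₂ 1 * ((r : ℂ) - s) = r * (k + l) + k := by
    rw [hθ₂]
    simp only [hval]
    rw [hone, hfix1, hn', h3']
    linear_combination (0 - (0 - (r : ℂ) * (1 + k + l) - (k - r))) * h4'
  obtain ⟨f, hf⟩ := isCharacter_apply_one hc1
  obtain ⟨g, hg⟩ := isCharacter_apply_one hc2
  have hpC : (k : ℂ) * k = k + k * a + l * b := by exact_mod_cast hp
  have hprod : (f : ℂ) * g * (((r : ℂ) - s) * (r - s)) = (1 + k + l) * k * l := by
    rw [← hf, ← hg]
    have h5 : θ₁ 1 * θ₂ 1 * (((r : ℂ) - s) * (r - s)) = (θ₁ 1 * (r - s)) * (θ₂ 1 * (r - s)) := by ring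
    rw [h5, hdeg1, hdeg2]
    linear_combination (-(k + l : ℂ) ^ 2) * h2C - (k : ℂ) * (k + l) * h1C + (k + l : ℂ) * hpC
  have hprod0 : ((1 + k + l : ℕ) : ℂ) * k * l ≠ 0 := by
    have e1 : (k : ℂ) ≠ 0 := by exact_mod_cast h.k0.ne'
    have e2 : (l : ℂ) ≠ 0 := by exact_mod_cast h.l0.ne'
    have e3 : ((1 + k + l : ℕ) : ℂ) ≠ 0 := by exact_mod_cast (by omega : (1 + k + l : ℕ) ≠ 0)
    exact mul_ne_zero (mul_ne_zero e3 e1) e2
  push_cast at hprod0
  have hf0 : f ≠ 0 := by
    rintro rfl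
    rw [Nat.cast_zero, zero_mul, zero_mul] at hprod
    exact hprod0 hprod.symm
  have hg0 : g ≠ 0 := by
    rintro rfl
    rw [Nat.cast_zero, mul_zero, zero_mul] at hprod
    exact hprod0 hprod.symm
  obtain ⟨m11, hm11⟩ := classInner_isNat hc1 hc1
  obtain ⟨m12, hm12⟩ := classInner_isNat hc1 hc2
  obtain ⟨m21, hm21⟩ := classInner_isNat hc2 hc1
  obtain ⟨m22, hm22⟩ := classInner_isNat hc2 hc2
  rw [hm11, hm12, hm21, hm22] at hnorm
  have hnormN : m11 + m12 + (m21 + m22) = 2 := by exact_mod_cast hnorm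
  have h11 : m11 ≠ 0 := by
    rintro rfl
    have h3 := classInner_self_eq_zero (φ := θ₁) (by rw [hm11]; simp)
    rw [h3] at hf
    apply hf0
    have : (f : ℂ) = 0 := by rw [← hf]; rfl
    exact_mod_cast this
  have h22 : m22 ≠ 0 := by
    rintro rfl
    have h3 := classInner_self_eq_zero (φ := θ₂) (by rw [hm22]; simp)
    rw [h3] at hg
    apply hg0
    have : (g : ℂ) = 0 := by rw [← hg]; rfl
    exact_mod_cast this
  have hm1 : m11 = 1 := by omega
  have hi1 : IsIrrCharacter G θ₁ := isIrr_of_classInner_self hc1 (by rw [hm11, hm1]; simp)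
  refine ⟨⟨θ₁, hi1⟩, f, fun g => rfl, hf, ?_⟩
  rw [hf] at hdeg1
  exact_mod_cast hdeg1

/-- the discriminant is a square -/
theorem sq_of_params [Finite G] (h : R3 G X R k l) {a b : ℕ} (hab : ∀ x y, ∑ z, adj R x z * adj R z y =
    (k - b : ℂ) * dia x y + (a - b : ℂ) * adj R x y + b)
    (hne : ((a : ℤ) - b) * (k + l) + 2 * k ≠ 0) : ∃ c : ℕ, (c : ℤ) * c = ((a : ℤ) - b) ^ 2 + 4 * (k - b) := by
  have := Fintype.ofFinite G
  have hp := h.params_eq hab
  have hn := h.cardn
  set β : ℤ := (a : ℤ) - b with hβ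
  set γ : ℤ := (k : ℤ) - b with hγ
  set N : ℤ := (k : ℤ) + l with hN
  have hpZ : (k : ℤ) * k = k + k * a + l * b := by exact_mod_cast hp
  have hI : (β ^ 2 + 4 * γ) * N ^ 2 = (β * N + 2 * k) ^ 2 + 4 * ((1 + k + l) * k * l) := by
    rw [hβ, hγ, hN]
    linear_combination (4 * ((k : ℤ) + l)) * hpZ
  have hk0 : (0 : ℤ) < k := by exact_mod_cast h.k0
  have hl0 : (0 : ℤ) < l := by exact_mod_cast h.l0
  have hN0 : 0 < N := by omega
  have hpos : (0 : ℤ) < (1 + k + l) * k * l := by (clear * - hk0 hl0; positivity)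
  have hD0 : 0 < β ^ 2 + 4 * γ := by
    have h1 : 0 < (β ^ 2 + 4 * γ) * N ^ 2 := by rw [hI]; linarith only [hpos, sq_nonneg (β * N + 2 * k)]
    by_contra hcon
    push Not at hcon
    nlinarith only [hI, hpos, hcon, sq_nonneg N]
  obtain ⟨D, hD⟩ : ∃ D : ℕ, (D : ℤ) = β ^ 2 + 4 * γ := ⟨(β ^ 2 + 4 * γ).toNat, Int.toNat_of_nonneg hD0.le⟩
  obtain ⟨d, hd⟩ : ∃ d : ℂ, d * d = (D : ℂ) := by
    obtain ⟨d, hd⟩ := IsAlgClosed.exists_pow_nat_eq (D : ℂ) (n := 2) (by norm_num)
    exact ⟨d, by rw [← hd]; ring⟩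
  have hd0 : d ≠ 0 := by
    rintro rfl
    have h1 : (D : ℂ) = 0 := by rw [← hd]; ring
    have h2 : D = 0 := by exact_mod_cast h1
    rw [h2] at hD
    omega
  set r : ℂ := (β + d) / 2 with hr
  set s : ℂ := (β - d) / 2 with hs
  have hrs : r - s = d := by rw [hr, hs]; ring
  have hrs' : r ≠ s := sub_ne_zero.1 (by rw [hrs]; exact hd0)
  have hDC : (D : ℂ) = (β : ℂ) ^ 2 + 4 * γ := by exact_mod_cast congrArg (Int.cast : ℤ → ℂ) hD
  have h1 : r + s = a - b := by
    rw [hr, hs, hβ]
    push_cast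
    ring
  have h2 : r * s = b - k := by
    have h3 : r * s = ((β : ℂ) ^ 2 - d * d) / 4 := by rw [hr, hs]; ring
    rw [h3, hd, hDC, hγ]
    push_cast
    ring
  have hchar : ∀ u v : ℂ, u ≠ v → u + v = a - b → u * v = b - k →
      IsCharacter G (fun g : G => ∑ x : X, ker R k (Nat.card X) u v x (g • x)) := by
    intro u v huv h3 h4
    exact Cfsg.Agent.H651.isCharacter_sum_perm (MulAction.toPermHom G X) (ker R k (Nat.card X) u v)
      (h.ker_mul hab huv h3 h4) (fun g x y => h.ker_smul _ u v g x y)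
  have hc1 := hchar r s hrs' h1 h2
  have hc2 := hchar s r hrs'.symm (by rw [add_comm]; exact h1) (by rw [mul_comm]; exact h2)
  have hnC : (Nat.card X : ℂ) ≠ 0 := by
    have : Nat.card X ≠ 0 := by omega
    exact_mod_cast this
  have hval : ∀ u v : ℂ, ∀ g : G, ∑ x : X, ker R k (Nat.card X) u v x (g • x) =
      (u - v)⁻¹ * (∑ x : X, adj R x (g • x) - v * (Nat.card (MulAction.fixedBy X g) : ℂ) - (k - v)) := by
    intro u v g
    unfold ker
    rw [← Finset.mul_sum, Finset.sum_sub_distrib, Finset.sum_sub_distrib, ← Finset.mul_sum, sum_dia_smul,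
      Finset.sum_const, Finset.card_univ, ← Nat.card_eq_fintype_card, nsmul_eq_mul]
    congr 2
    field_simp
  have hone : ∑ x : X, adj R x ((1 : G) • x) = 0 := by
    refine Finset.sum_eq_zero fun x _ => ?_
    unfold adj
    rw [one_smul, if_neg (h.irr x)]
  have hfix1 : Nat.card (MulAction.fixedBy X (1 : G)) = Nat.card X := by
    rw [MulAction.fixedBy_one_eq_univ]
    exact Nat.card_univ
  have hn' : (Nat.card X : ℂ) = 1 + k + l := by exact_mod_cast hn
  obtain ⟨f, hf⟩ := isCharacter_apply_one hc1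
  obtain ⟨g, hg⟩ := isCharacter_apply_one hc2
  have hdeg1 : (f : ℂ) * d = -(s * (k + l) + k) := by
    rw [← hf]
    show (∑ x : X, ker R k (Nat.card X) r s x ((1 : G) • x)) * d = _
    rw [hval, hone, hfix1, hn', hrs]
    have h4 : d⁻¹ * d = 1 := inv_mul_cancel₀ hd0
    linear_combination (0 - s * (1 + k + l) - (k - s)) * h4
  have hdeg2 : (g : ℂ) * d = r * (k + l) + k := by
    rw [← hg]
    show (∑ x : X, ker R k (Nat.card X) s r x ((1 : G) • x)) * d = _
    have h3 : (s - r)⁻¹ = -d⁻¹ := by rw [← neg_sub, inv_neg, hrs]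
    rw [hval, hone, hfix1, hn', h3]
    have h4 : d⁻¹ * d = 1 := inv_mul_cancel₀ hd0
    linear_combination (0 - (0 - r * (1 + k + l) - (k - r))) * h4
  have h3 : ((f : ℂ) - g) * d = -(β * (k + l) + 2 * k) := by
    have h4 : (β : ℂ) = r + s := by rw [hr, hs]; ring
    rw [h4]
    linear_combination hdeg1 - hdeg2
  have h5 : ((f : ℂ) - g) ^ 2 * D = (β * (k + l) + 2 * k) ^ 2 := by
    rw [← hd]
    have : ((f : ℂ) - g) ^ 2 * (d * d) = (((f : ℂ) - g) * d) ^ 2 := by ring
    rw [this, h3]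
    ring
  have h6 : ((f : ℤ) - g) ^ 2 * D = (β * (k + l) + 2 * k) ^ 2 := by exact_mod_cast h5
  have h7 : ((f : ℤ) - g) ≠ 0 := by
    intro h8
    rw [h8, zero_pow (by norm_num), zero_mul] at h6
    exact hne (pow_eq_zero_iff (by norm_num) |>.1 h6.symm)
  have h8 : ((f : ℤ) - g) ∣ (β * (k + l) + 2 * k) := by
    have h9 : ((f : ℤ) - g) ^ 2 ∣ (β * (k + l) + 2 * k) ^ 2 := ⟨_, h6.symm⟩
    exact (Int.pow_dvd_pow_iff (by norm_num)).1 h9
  obtain ⟨c, hc⟩ := h8
  rw [hc, mul_pow] at h6
  have h10 : (D : ℤ) = c ^ 2 := mul_left_cancel₀ (pow_ne_zero 2 h7) h6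
  refine ⟨c.natAbs, ?_⟩
  rw [← hD, h10, ← Nat.cast_mul, Int.natAbs_mul_self]
  ring

/-- non adjacent points have at most `k` common neighbours -/
theorem b_le (h : R3 G X R k l) {a b : ℕ} (hab : ∀ x y, ∑ z, adj R x z * adj R z y =
    (k - b : ℂ) * dia x y + (a - b : ℂ) * adj R x y + b) : b ≤ k := by
  have hn := h.cardn
  have hne : Nonempty X := by
    rw [← Finite.card_pos_iff]
    omega
  obtain ⟨x0⟩ := hne
  obtain ⟨y2, hy2, hy2'⟩ : ∃ y, x0 ≠ y ∧ ¬ R x0 y := by
    by_contra hcon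
    push Not at hcon
    have h1 : Nat.card X ≤ 1 + k := by
      rw [Nat.card_eq_fintype_card, ← Finset.card_univ]
      have h2 : (Finset.univ : Finset X) ⊆ {x0} ∪ Finset.univ.filter (fun y => R x0 y) := by
        intro y _
        rw [Finset.mem_union, Finset.mem_singleton, Finset.mem_filter]
        by_cases hxy : x0 = y
        · exact Or.inl hxy.symm
        · exact Or.inr ⟨Finset.mem_univ _, hcon y hxy⟩
      refine (Finset.card_le_card h2).trans ((Finset.card_union_le _ _).trans ?_)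
      rw [Finset.card_singleton, ← h.cardk x0, Nat.card_eq_fintype_card, Fintype.card_subtype]
    have := h.l0
    omega
  have h1 := hab x0 y2
  rw [sum_mul] at h1
  unfold dia adj at h1
  rw [if_neg hy2, if_neg hy2', mul_zero, mul_zero, add_zero, zero_add] at h1
  have h2 : com R x0 y2 = b := by exact_mod_cast h1
  rw [← h2, ← h.cardk x0]
  exact Nat.card_le_card_of_injective (fun z : {z // R x0 z ∧ R z y2} => (⟨z.1, z.2.1⟩ : {y // R x0 y}))
    (fun z w hzw => Subtype.ext (congrArg (fun t : {y // R x0 y} => t.1) hzw))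

/-- integer square root -/
def isq : ℕ → ℕ → ℕ → ℕ
  | 0, _, c => c
  | i + 1, D, c => if Nat.ble ((c + 2 ^ i) * (c + 2 ^ i)) D = true then isq i D (c + 2 ^ i) else isq i D c

/-- the check for one pair of parameters, `d` is the integer square root of the discriminant `D` -/
def chkOne (k l p e a b D d : ℕ) : Bool :=
  if d * d = D then
    decide ((d + a - b) / 2 + b = (d + b - a) / 2 + a) && decide ((d + a - b) / 2 * ((d + b - a) / 2) + b = k) &&
    decide (d ≠ 0) && decide ((d + a - b) / 2 + (d + b - a) / 2 = d) && decide ((d + a - b) / 2 ≤ k) &&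
    decide (k ≤ (d + b - a) / 2 * (k + l)) &&
    (decide (((d + b - a) / 2 * (k + l) - k) % d ≠ 0) ||
      decide (((d + a - b) / 2 * (k + l) + k) % d ≠ 0) ||
      (decide ((((d + b - a) / 2 * (k + l) - k) / d) % p = 0) &&
        decide (((k + (d + b - a) / 2) * p ^ e) % (1 + k + l) ≠ 0)) ||
      (decide ((((d + a - b) / 2 * (k + l) + k) / d) % p = 0) &&
        decide (((k - (d + a - b) / 2) * p ^ e) % (1 + k + l) ≠ 0)))
  else decide (d * d < D) && decide (D < (d + 1) * (d + 1)) && decide (a * (k + l) + 2 * k ≠ b * (k + l))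

/-- the check -/
def chk (k l p e : ℕ) : Bool :=
  decide (1 + k + l < 2 ^ (e + 1)) && decide (0 < k / Nat.gcd k l) &&
  (List.range (min k (k * k / l) / (k / Nat.gcd k l) + 1)).all fun t =>
    decide ((k * k - k - l * (t * (k / Nat.gcd k l))) % k ≠ 0) ||
    decide (k * k < k + l * (t * (k / Nat.gcd k l))) ||
    chkOne k l p e ((k * k - k - l * (t * (k / Nat.gcd k l))) / k) (t * (k / Nat.gcd k l))
      (((k * k - k - l * (t * (k / Nat.gcd k l))) / k - t * (k / Nat.gcd k l) +
        (t * (k / Nat.gcd k l) - (k * k - k - l * (t * (k / Nat.gcd k l))) / k)) ^ 2 + 4 * (k - t * (k / Nat.gcd k l)))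
      (isq 24 (((k * k - k - l * (t * (k / Nat.gcd k l))) / k - t * (k / Nat.gcd k l) +
        (t * (k / Nat.gcd k l) - (k * k - k - l * (t * (k / Nat.gcd k l))) / k)) ^ 2 +
          4 * (k - t * (k / Nat.gcd k l))) 0)

end fixed

end Cfsg.Agent.H968.Imc
end

-- part: H968/Imc/RankThreeRat
section
set_option linter.all false
open scoped Cfsg.Agent.FastGrp

/-!
# The two nontrivial constituents of a rank 3 permutation character are integer valued (helper968)

`exists_pair` : `fix = 1 + χ₁ + χ₂` with `χ₁, χ₂` irreducible, integer valued and a Boolean condition `Q (χ₁ 1) (χ₂ 1)`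
of the degrees which is verified for all possible parameters by `chkP k l Q = true` (`decide +kernel`).
-/

set_option autoImplicit false
set_option linter.unusedSectionVars false

namespace Cfsg.Agent.H968.Imc

open Cfsg Cfsg.Agent.Characters.Core Cfsg.Agent.H625.SylConst Cfsg.Agent.H690.Spor.RankThree
open Cfsg.Agent.H690.Spor.RankThree.R3
open scoped ComplexConjugate

universe u v

variable {G : Type u} {X : Type v} [Group G] [MulAction G X] {R : X → X → Prop} {k l : ℕ}

section fixed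

variable [Fintype X] [DecidableEq X] [DecidableRel R]

theorem ker_val (h : R3 G X R k l) (u v : ℂ) (g : G) : ∑ x : X, ker R k (Nat.card X) u v x (g • x) =
    (u - v)⁻¹ * (∑ x : X, adj R x (g • x) - v * (Nat.card (MulAction.fixedBy X g) : ℂ) - (k - v)) := by
  have hn := h.cardn
  have hnC : (Nat.card X : ℂ) ≠ 0 := by
    have : Nat.card X ≠ 0 := by omega
    exact_mod_cast this
  unfold ker
  rw [← Finset.mul_sum, Finset.sum_sub_distrib, Finset.sum_sub_distrib, ← Finset.mul_sum, sum_dia_smul,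
    Finset.sum_const, Finset.card_univ, ← Nat.card_eq_fintype_card, nsmul_eq_mul]
  congr 2
  field_simp

theorem fix_eq (h : R3 G X R k l) {r s : ℤ} (hrs : r ≠ s) (g : G) : (Nat.card (MulAction.fixedBy X g) : ℂ) =
    1 + ∑ x : X, ker R k (Nat.card X) (r : ℂ) (s : ℂ) x (g • x) +
      ∑ x : X, ker R k (Nat.card X) (s : ℂ) (r : ℂ) x (g • x) := by
  have hrsC : (r : ℂ) ≠ s := by exact_mod_cast hrs
  have hd0 : (r : ℂ) - s ≠ 0 := sub_ne_zero.2 hrsC
  have h3' : ((s : ℂ) - r)⁻¹ = -((r : ℂ) - s)⁻¹ := by rw [← neg_sub, inv_neg]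
  have h4' : ((r : ℂ) - s)⁻¹ * ((r : ℂ) - s) = 1 := inv_mul_cancel₀ hd0
  rw [ker_val h, ker_val h, h3']
  linear_combination (-(Nat.card (MulAction.fixedBy X g) : ℂ) + 1) * h4'

theorem ker_rat (h : R3 G X R k l) (r s : ℤ) (g : G) :
    ∃ q : ℚ, ∑ x : X, ker R k (Nat.card X) (r : ℂ) (s : ℂ) x (g • x) = q := by
  refine ⟨((r : ℚ) - s)⁻¹ * (((Finset.univ.filter fun x : X => R x (g • x)).card : ℚ) -
    s * (Nat.card (MulAction.fixedBy X g) : ℚ) - (k - s)), ?_⟩
  rw [ker_val h]
  have e1 : ∑ x : X, adj R x (g • x) = ((Finset.univ.filter fun x : X => R x (g • x)).card : ℂ) := by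
    unfold adj
    rw [Finset.sum_boole]
  rw [e1]
  push_cast
  ring

/-- the constituents are integer valued -/
theorem exists_irr_int [Finite G] (h : R3 G X R k l) {a b : ℕ} (hab : ∀ x y, ∑ z, adj R x z * adj R z y =
    (k - b : ℂ) * dia x y + (a - b : ℂ) * adj R x y + b) {r s : ℤ} (hrs : r ≠ s) (h1 : r + s = a - b)
    (h2 : r * s = b - k) : ∃ (χ : IrrCharacter G) (f : ℕ),
      (∀ g, (χ : G → ℂ) g = ∑ x : X, ker R k (Nat.card X) (r : ℂ) (s : ℂ) x (g • x)) ∧
      (∀ g, ∃ z : ℤ, (χ : G → ℂ) g = z) ∧ charDegree (χ : G → ℂ) = f ∧ (f : ℤ) * (r - s) = -(s * (k + l) + k) := by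
  obtain ⟨χ, f, h3, h4, h5⟩ := exists_irr h hab hrs h1 h2
  refine ⟨χ, f, h3, fun g => ?_, Cfsg.Agent.Blocks.Basic.charDegree_of_eq h4, h5⟩
  obtain ⟨q, hq⟩ := ker_rat h r s g
  exact Cfsg.Agent.Characters.GaloisBasic.exists_int_of_rat (isIrr_isCharacter χ.2) g ⟨q, by rw [h3, hq]⟩

/-- the check for one pair of parameters, `d` is the integer square root of the discriminant `D` -/
def chkPOne (k l : ℕ) (Q : ℕ → ℕ → Bool) (a b D d : ℕ) : Bool :=
  if d * d = D then
    decide ((d + a - b) / 2 + b = (d + b - a) / 2 + a) && decide ((d + a - b) / 2 * ((d + b - a) / 2) + b = k) &&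
    decide (d ≠ 0) && decide ((d + a - b) / 2 + (d + b - a) / 2 = d) &&
    decide (k ≤ (d + b - a) / 2 * (k + l)) &&
    (decide (((d + b - a) / 2 * (k + l) - k) % d ≠ 0) ||
      decide (((d + a - b) / 2 * (k + l) + k) % d ≠ 0) ||
      Q (((d + b - a) / 2 * (k + l) - k) / d) (((d + a - b) / 2 * (k + l) + k) / d))
  else decide (d * d < D) && decide (D < (d + 1) * (d + 1)) && decide (a * (k + l) + 2 * k ≠ b * (k + l))

/-- the check -/
def chkP (k l : ℕ) (Q : ℕ → ℕ → Bool) : Bool :=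
  decide (0 < k / Nat.gcd k l) &&
  (List.range (min k (k * k / l) / (k / Nat.gcd k l) + 1)).all fun t =>
    decide ((k * k - k - l * (t * (k / Nat.gcd k l))) % k ≠ 0) ||
    decide (k * k < k + l * (t * (k / Nat.gcd k l))) ||
    chkPOne k l Q ((k * k - k - l * (t * (k / Nat.gcd k l))) / k) (t * (k / Nat.gcd k l))
      (((k * k - k - l * (t * (k / Nat.gcd k l))) / k - t * (k / Nat.gcd k l) +
        (t * (k / Nat.gcd k l) - (k * k - k - l * (t * (k / Nat.gcd k l))) / k)) ^ 2 + 4 * (k - t * (k / Nat.gcd k l)))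
      (isq 24 (((k * k - k - l * (t * (k / Nat.gcd k l))) / k - t * (k / Nat.gcd k l) +
        (t * (k / Nat.gcd k l) - (k * k - k - l * (t * (k / Nat.gcd k l))) / k)) ^ 2 +
          4 * (k - t * (k / Nat.gcd k l))) 0)

theorem exists_pair' [Finite G] (h : R3 G X R k l) (Q : ℕ → ℕ → Bool) (hc : chkP k l Q = true) :
    ∃ χ₁ χ₂ : IrrCharacter G, (∀ g, ∃ z : ℤ, (χ₁ : G → ℂ) g = z) ∧ (∀ g, ∃ z : ℤ, (χ₂ : G → ℂ) g = z) ∧
      (∀ g : G, (Nat.card (MulAction.fixedBy X g) : ℂ) = 1 + (χ₁ : G → ℂ) g + (χ₂ : G → ℂ) g) ∧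
      Q (charDegree (χ₁ : G → ℂ)) (charDegree (χ₂ : G → ℂ)) = true := by
  obtain ⟨a, b, hab⟩ := h.exists_params
  have hpar := h.params_eq hab
  have hb := b_le h hab
  have hk0 := h.k0
  have hl0 := h.l0
  unfold chkP at hc
  rw [Bool.and_eq_true, decide_eq_true_eq, List.all_eq_true] at hc
  obtain ⟨hst, hc⟩ := hc
  obtain ⟨st, hst'⟩ : ∃ st, st = k / Nat.gcd k l := ⟨_, rfl⟩
  rw [← hst'] at hc hst
  have hdiv : st ∣ b := by
    have h1 : k ∣ l * b := by
      have h2 : k ∣ k * k := dvd_mul_right k k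
      rw [hpar] at h2
      exact (Nat.dvd_add_right ((dvd_refl k).add (dvd_mul_right k a))).1 h2
    obtain ⟨g, hg⟩ : ∃ g, g = Nat.gcd k l := ⟨_, rfl⟩
    have hg0 : 0 < g := by rw [hg]; exact Nat.gcd_pos_of_pos_left l hk0
    have hcop : Nat.Coprime (k / g) (l / g) := by rw [hg]; exact Nat.coprime_div_gcd_div_gcd (by rw [← hg]; exact hg0)
    rw [hst', ← hg]
    have hkg : g * (k / g) = k := Nat.mul_div_cancel' (by rw [hg]; exact Nat.gcd_dvd_left k l)
    have hlg : g * (l / g) = l := Nat.mul_div_cancel' (by rw [hg]; exact Nat.gcd_dvd_right k l)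
    refine hcop.dvd_of_dvd_mul_left (Nat.dvd_of_mul_dvd_mul_left hg0 ?_)
    rw [hkg, ← mul_assoc, hlg]
    exact h1
  obtain ⟨t, ht⟩ := hdiv
  have hbl : b ≤ k * k / l := by
    rw [Nat.le_div_iff_mul_le hl0, mul_comm]
    omega
  have hmem : t ∈ List.range (min k (k * k / l) / st + 1) := by
    rw [List.mem_range]
    have h1 : b ≤ min k (k * k / l) := le_min hb hbl
    have h2 : t ≤ min k (k * k / l) / st := by
      rw [Nat.le_div_iff_mul_le hst, mul_comm, ← ht]
      exact h1
    omega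
  have h1 := hc t hmem
  have htb : t * st = b := by rw [mul_comm, ht]
  rw [htb] at h1
  have hw : k * k - k - l * b = k * a := by omega
  rw [hw, Nat.mul_mod_right, Nat.mul_div_cancel_left a hk0] at h1
  rw [Bool.or_eq_true, Bool.or_eq_true, decide_eq_true_eq, decide_eq_true_eq] at h1
  replace h1 := h1.resolve_left (by omega)
  obtain ⟨D, hD⟩ : ∃ D, D = (a - b + (b - a)) ^ 2 + 4 * (k - b) := ⟨_, rfl⟩
  rw [← hD] at h1
  have hDZ : (D : ℤ) = ((a : ℤ) - b) ^ 2 + 4 * (k - b) := by
    rw [hD]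
    push_cast [Nat.cast_sub hb]
    rcases le_total a b with h2 | h2
    · rw [Nat.sub_eq_zero_of_le h2, Nat.cast_sub h2]
      push_cast
      ring
    · rw [Nat.sub_eq_zero_of_le h2, Nat.cast_sub h2]
      push_cast
      ring
  generalize isq 24 D 0 = d at h1
  unfold chkPOne at h1
  have hsum : ((a : ℤ) - b) * (k + l) + 2 * k ≠ 0 → d * d = D := by
    intro h2
    by_contra h3
    rw [if_neg h3, Bool.and_eq_true, Bool.and_eq_true, decide_eq_true_eq, decide_eq_true_eq, decide_eq_true_eq] at h1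
    obtain ⟨⟨h4, h5⟩, -⟩ := h1
    obtain ⟨c, hc⟩ := sq_of_params h hab h2
    rw [← hDZ] at hc
    have hc' : c * c = D := by exact_mod_cast hc
    have h6 : d < c := by
      by_contra h7
      push Not at h7
      have := Nat.mul_le_mul h7 h7
      omega
    have h7 : c < d + 1 := by
      by_contra h7
      push Not at h7
      have := Nat.mul_le_mul h7 h7
      omega
    omega
  by_cases hdD : d * d = D
  swap
  · exfalso
    rw [if_neg hdD, Bool.and_eq_true, Bool.and_eq_true, decide_eq_true_eq, decide_eq_true_eq, decide_eq_true_eq] at h1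
    obtain ⟨-, h4⟩ := h1
    apply hdD (hsum ?_)
    intro h5
    apply h4
    zify
    linear_combination h5
  rw [if_pos hdD] at h1
  obtain ⟨r, hr⟩ : ∃ r, r = (d + a - b) / 2 := ⟨_, rfl⟩
  obtain ⟨s, hs⟩ : ∃ s, s = (d + b - a) / 2 := ⟨_, rfl⟩
  rw [← hr, ← hs] at h1
  simp only [Bool.and_eq_true, Bool.or_eq_true, decide_eq_true_eq] at h1
  obtain ⟨⟨⟨⟨⟨h2, h3⟩, h4⟩, h5⟩, h7⟩, h8⟩ := h1
  have hrs : (r : ℤ) ≠ -(s : ℤ) := by omega
  have e1 : (r : ℤ) + -(s : ℤ) = a - b := by omega
  have e2 : (r : ℤ) * -(s : ℤ) = b - k := by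
    have : (r : ℤ) * s + b = k := by exact_mod_cast h3
    linear_combination -this
  obtain ⟨χ₁, f, v1, z1, d1, hf⟩ := exists_irr_int h hab hrs e1 e2
  obtain ⟨χ₂, g, v2, z2, d2, hg⟩ := exists_irr_int h hab hrs.symm (by rw [add_comm]; exact e1)
    (by rw [mul_comm]; exact e2)
  have hfN : s * (k + l) - k = d * f := by
    have h9 : ((s * (k + l) : ℕ) : ℤ) = k + f * d := by
      rw [← h5]
      push_cast
      linear_combination -hf
    have h10 : s * (k + l) = k + f * d := by exact_mod_cast h9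
    rw [h10, Nat.add_sub_cancel_left, mul_comm]
  have hgN : r * (k + l) + k = d * g := by
    have h9 : ((r * (k + l) + k : ℕ) : ℤ) = d * g := by
      rw [← h5]
      push_cast
      linear_combination hg
    exact_mod_cast h9
  rw [hfN, hgN] at h8
  rw [Nat.mul_mod_right, Nat.mul_mod_right, Nat.mul_div_cancel_left _ (Nat.pos_of_ne_zero h4),
    Nat.mul_div_cancel_left _ (Nat.pos_of_ne_zero h4)] at h8
  rcases h8 with (h8 | h8) | h8
  · exact absurd rfl h8
  · exact absurd rfl h8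
  · refine ⟨χ₁, χ₂, z1, z2, fun x => ?_, by rw [d1, d2]; exact h8⟩
    rw [v1, v2]
    exact fix_eq h hrs x

end fixed

/-- **The permutation character of a rank 3 action** is `1 + χ₁ + χ₂`, `χ₁`, `χ₂` irreducible and integer valued. -/
theorem exists_pair [Finite G] (h : R3 G X R k l) (Q : ℕ → ℕ → Bool) (hc : chkP k l Q = true) :
    ∃ χ₁ χ₂ : IrrCharacter G, (∀ g, ∃ z : ℤ, (χ₁ : G → ℂ) g = z) ∧ (∀ g, ∃ z : ℤ, (χ₂ : G → ℂ) g = z) ∧
      (∀ g : G, (Nat.card (MulAction.fixedBy X g) : ℂ) = 1 + (χ₁ : G → ℂ) g + (χ₂ : G → ℂ) g) ∧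
      Q (charDegree (χ₁ : G → ℂ)) (charDegree (χ₂ : G → ℂ)) = true := by
  classical
  have hn := h.cardn
  have hfin : Finite X := by
    by_contra hcon
    rw [not_finite_iff_infinite] at hcon
    rw [Nat.card_eq_zero_of_infinite] at hn
    omega
  have := Fintype.ofFinite X
  exact exists_pair' h Q hc

/-- the degrees `f`, `g` of the constituents, for groups with a rank 3 action -/
theorem exists_degrees [Finite G] (h : R3 G X R k l) (f g : ℕ)
    (hc : (chkP k l fun a b => (a == f) && (b == g)) = true) :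
    ∃ χ₁ χ₂ : IrrCharacter G, (∀ x, ∃ z : ℤ, (χ₁ : G → ℂ) x = z) ∧ (∀ x, ∃ z : ℤ, (χ₂ : G → ℂ) x = z) ∧
      (∀ x : G, (Nat.card (MulAction.fixedBy X x) : ℂ) = 1 + (χ₁ : G → ℂ) x + (χ₂ : G → ℂ) x) ∧
      charDegree (χ₁ : G → ℂ) = f ∧ charDegree (χ₂ : G → ℂ) = g := by
  obtain ⟨χ₁, χ₂, h1, h2, h3, h4⟩ := exists_pair h _ hc
  rw [Bool.and_eq_true, beq_iff_eq, beq_iff_eq] at h4
  exact ⟨χ₁, χ₂, h1, h2, h3, h4.1, h4.2⟩

end Cfsg.Agent.H968.Imc
end

-- part: H301/PQ/RankThree
section
prune_inst 0x400004004100000000018000242007802d000019200000000e0000004000088222941200100800000004222002801000000100010000000000000040000010000008000002110a100200006800080010000000000000000000000000000000000004010000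
set_option linter.all false
open scoped Cfsg.Agent.FastGrp

/-!
# S4612: the values of the two characters of a rank 3 action (helper301)

`rank3_vals` : for `R3 G X R k l` with eigenvalues `r`, `-s` of `R` (by a check `chkV`) the permutation character is
`1 + χ₁ + χ₂` with `(r + s) χ₁(g) = N(g) + s fix(g) - k - s` and `(r + s) χ₂(g) = r fix(g) + k - r - N(g)`, where
`N(g)` is the number of the points `x` with `R x (g x)`.
-/

set_option autoImplicit false
set_option linter.unusedSectionVars false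

namespace Cfsg.Agent.H301.PQ

open Cfsg Cfsg.Agent.Characters.Core Cfsg.Agent.H625.SylConst Cfsg.Agent.H690.Spor.RankThree Cfsg.Agent.H968.Imc
open Cfsg.Agent.Blocks.Basic
open Cfsg.Agent.H690.Spor.RankThree.R3
open scoped ComplexConjugate

universe u v

variable {G : Type u} {X : Type v} [Group G] [MulAction G X] {R : X → X → Prop} {k l : ℕ}

/-- the check for one pair of parameters, `d` is the integer square root of the discriminant `D` -/
def chkVOne (k l : ℕ) (Q : ℕ → ℕ → Bool) (a b D d : ℕ) : Bool :=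
  if d * d = D then
    decide ((d + a - b) / 2 + b = (d + b - a) / 2 + a) && decide ((d + a - b) / 2 * ((d + b - a) / 2) + b = k) &&
    decide (d ≠ 0) && decide ((d + a - b) / 2 + (d + b - a) / 2 = d) &&
    decide (k ≤ (d + b - a) / 2 * (k + l)) &&
    (decide (((d + b - a) / 2 * (k + l) - k) % d ≠ 0) ||
      decide (((d + a - b) / 2 * (k + l) + k) % d ≠ 0) ||
      Q ((d + a - b) / 2) ((d + b - a) / 2))
  else decide (d * d < D) && decide (D < (d + 1) * (d + 1)) && decide (a * (k + l) + 2 * k ≠ b * (k + l))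

/-- the check -/
def chkV (k l : ℕ) (Q : ℕ → ℕ → Bool) : Bool :=
  decide (0 < k / Nat.gcd k l) &&
  (List.range (min k (k * k / l) / (k / Nat.gcd k l) + 1)).all fun t =>
    decide ((k * k - k - l * (t * (k / Nat.gcd k l))) % k ≠ 0) ||
    decide (k * k < k + l * (t * (k / Nat.gcd k l))) ||
    chkVOne k l Q ((k * k - k - l * (t * (k / Nat.gcd k l))) / k) (t * (k / Nat.gcd k l))
      (((k * k - k - l * (t * (k / Nat.gcd k l))) / k - t * (k / Nat.gcd k l) +
        (t * (k / Nat.gcd k l) - (k * k - k - l * (t * (k / Nat.gcd k l))) / k)) ^ 2 + 4 * (k - t * (k / Nat.gcd k l)))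
      (isq 24 (((k * k - k - l * (t * (k / Nat.gcd k l))) / k - t * (k / Nat.gcd k l) +
        (t * (k / Nat.gcd k l) - (k * k - k - l * (t * (k / Nat.gcd k l))) / k)) ^ 2 +
          4 * (k - t * (k / Nat.gcd k l))) 0)

section fixed

variable [Fintype X] [DecidableEq X] [DecidableRel R]

theorem exists_vals' [Finite G] (h : R3 G X R k l) (Q : ℕ → ℕ → Bool) (hc : chkV k l Q = true) :
    ∃ (r s : ℕ) (χ₁ χ₂ : IrrCharacter G), Q r s = true ∧ r + s ≠ 0 ∧
      (∀ g, (χ₁ : G → ℂ) g = ∑ x : X, ker R k (Nat.card X) ((r : ℤ) : ℂ) ((-(s : ℤ) : ℤ) : ℂ) x (g • x)) ∧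
      (∀ g, (χ₂ : G → ℂ) g = ∑ x : X, ker R k (Nat.card X) ((-(s : ℤ) : ℤ) : ℂ) ((r : ℤ) : ℂ) x (g • x)) ∧
      (∀ x y, ∑ z, adj R x z * adj R z y = (r * s : ℂ) * dia x y + (r - s : ℂ) * adj R x y + (k - r * s)) := by
  obtain ⟨a, b, hab⟩ := h.exists_params
  have hpar := h.params_eq hab
  have hb := b_le h hab
  have hk0 := h.k0
  have hl0 := h.l0
  unfold chkV at hc
  rw [Bool.and_eq_true, decide_eq_true_eq, List.all_eq_true] at hc
  obtain ⟨hst, hc⟩ := hc
  obtain ⟨st, hst'⟩ : ∃ st, st = k / Nat.gcd k l := ⟨_, rfl⟩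
  rw [← hst'] at hc hst
  have hdiv : st ∣ b := by
    have h1 : k ∣ l * b := by
      have h2 : k ∣ k * k := dvd_mul_right k k
      rw [hpar] at h2
      exact (Nat.dvd_add_right ((dvd_refl k).add (dvd_mul_right k a))).1 h2
    obtain ⟨g, hg⟩ : ∃ g, g = Nat.gcd k l := ⟨_, rfl⟩
    have hg0 : 0 < g := by rw [hg]; exact Nat.gcd_pos_of_pos_left l hk0
    have hcop : Nat.Coprime (k / g) (l / g) := by rw [hg]; exact Nat.coprime_div_gcd_div_gcd (by rw [← hg]; exact hg0)
    rw [hst', ← hg]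
    have hkg : g * (k / g) = k := Nat.mul_div_cancel' (by rw [hg]; exact Nat.gcd_dvd_left k l)
    have hlg : g * (l / g) = l := Nat.mul_div_cancel' (by rw [hg]; exact Nat.gcd_dvd_right k l)
    refine hcop.dvd_of_dvd_mul_left (Nat.dvd_of_mul_dvd_mul_left hg0 ?_)
    rw [hkg, ← mul_assoc, hlg]
    exact h1
  obtain ⟨t, ht⟩ := hdiv
  have hbl : b ≤ k * k / l := by
    rw [Nat.le_div_iff_mul_le hl0, mul_comm]
    omega
  have hmem : t ∈ List.range (min k (k * k / l) / st + 1) := by
    rw [List.mem_range]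
    have h1 : b ≤ min k (k * k / l) := le_min hb hbl
    have h2 : t ≤ min k (k * k / l) / st := by
      rw [Nat.le_div_iff_mul_le hst, mul_comm, ← ht]
      exact h1
    omega
  have h1 := hc t hmem
  have htb : t * st = b := by rw [mul_comm, ht]
  rw [htb] at h1
  have hw : k * k - k - l * b = k * a := by omega
  rw [hw, Nat.mul_mod_right, Nat.mul_div_cancel_left a hk0] at h1
  rw [Bool.or_eq_true, Bool.or_eq_true, decide_eq_true_eq, decide_eq_true_eq] at h1
  replace h1 := h1.resolve_left (by omega)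
  obtain ⟨D, hD⟩ : ∃ D, D = (a - b + (b - a)) ^ 2 + 4 * (k - b) := ⟨_, rfl⟩
  rw [← hD] at h1
  have hDZ : (D : ℤ) = ((a : ℤ) - b) ^ 2 + 4 * (k - b) := by
    rw [hD]
    push_cast [Nat.cast_sub hb]
    rcases le_total a b with h2 | h2
    · rw [Nat.sub_eq_zero_of_le h2, Nat.cast_sub h2]
      push_cast
      ring
    · rw [Nat.sub_eq_zero_of_le h2, Nat.cast_sub h2]
      push_cast
      ring
  generalize isq 24 D 0 = d at h1
  unfold chkVOne at h1
  have hsum : ((a : ℤ) - b) * (k + l) + 2 * k ≠ 0 → d * d = D := by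
    intro h2
    by_contra h3
    rw [if_neg h3, Bool.and_eq_true, Bool.and_eq_true, decide_eq_true_eq, decide_eq_true_eq, decide_eq_true_eq] at h1
    obtain ⟨⟨h4, h5⟩, -⟩ := h1
    obtain ⟨c, hc⟩ := sq_of_params h hab h2
    rw [← hDZ] at hc
    have hc' : c * c = D := by exact_mod_cast hc
    have h6 : d < c := by
      by_contra h7
      push Not at h7
      have := Nat.mul_le_mul h7 h7
      omega
    have h7 : c < d + 1 := by
      by_contra h7
      push Not at h7
      have := Nat.mul_le_mul h7 h7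
      omega
    omega
  by_cases hdD : d * d = D
  swap
  · exfalso
    rw [if_neg hdD, Bool.and_eq_true, Bool.and_eq_true, decide_eq_true_eq, decide_eq_true_eq, decide_eq_true_eq] at h1
    obtain ⟨-, h4⟩ := h1
    apply hdD (hsum ?_)
    intro h5
    apply h4
    zify
    linear_combination h5
  rw [if_pos hdD] at h1
  obtain ⟨r, hr⟩ : ∃ r, r = (d + a - b) / 2 := ⟨_, rfl⟩
  obtain ⟨s, hs⟩ : ∃ s, s = (d + b - a) / 2 := ⟨_, rfl⟩
  rw [← hr, ← hs] at h1
  simp only [Bool.and_eq_true, Bool.or_eq_true, decide_eq_true_eq] at h1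
  obtain ⟨⟨⟨⟨⟨h2, h3⟩, h4⟩, h5⟩, h7⟩, h8⟩ := h1
  have hrs : (r : ℤ) ≠ -(s : ℤ) := by omega
  have e1 : (r : ℤ) + -(s : ℤ) = a - b := by omega
  have e2 : (r : ℤ) * -(s : ℤ) = b - k := by
    have : (r : ℤ) * s + b = k := by exact_mod_cast h3
    linear_combination -this
  obtain ⟨χ₁, f, v1, z1, d1, hf⟩ := exists_irr_int h hab hrs e1 e2
  obtain ⟨χ₂, g, v2, z2, d2, hg⟩ := exists_irr_int h hab hrs.symm (by rw [add_comm]; exact e1)
    (by rw [mul_comm]; exact e2)
  have hfN : s * (k + l) - k = d * f := by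
    have h9 : ((s * (k + l) : ℕ) : ℤ) = k + f * d := by
      rw [← h5]
      push_cast
      linear_combination -hf
    have h10 : s * (k + l) = k + f * d := by exact_mod_cast h9
    rw [h10, Nat.add_sub_cancel_left, mul_comm]
  have hgN : r * (k + l) + k = d * g := by
    have h9 : ((r * (k + l) + k : ℕ) : ℤ) = d * g := by
      rw [← h5]
      push_cast
      linear_combination hg
    exact_mod_cast h9
  rw [hfN, hgN] at h8
  rw [Nat.mul_mod_right, Nat.mul_mod_right] at h8
  rcases h8 with (h8 | h8) | h8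
  · exact absurd rfl h8
  · exact absurd rfl h8
  · refine ⟨r, s, χ₁, χ₂, h8, by (clear * - hrs; omega), v1, v2, fun x y => ?_⟩
    have e1' : (r : ℂ) - s = a - b := by
      have e3 : (r : ℤ) - s = a - b := by linarith only [h2]
      exact_mod_cast e3
    have e2' : (b : ℂ) = k - r * s := by
      have e3 : (r : ℤ) * s = k - b := by linarith only [h3]
      have e4 : (r : ℂ) * s = k - b := by exact_mod_cast e3
      rw [e4]
      ring
    rw [hab, ← e1', e2']
    ring

end fixed

/-- the number of the points `x` with `R x (g x)` -/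
noncomputable def nR (G : Type u) {X : Type v} [Group G] [MulAction G X] (R : X → X → Prop) (g : G) : ℕ :=
  Nat.card {x : X // R x (g • x)}

/-- the permutation character -/
noncomputable def fx (G : Type u) (X : Type v) [Group G] [MulAction G X] (g : G) : ℕ :=
  Nat.card (MulAction.fixedBy X g)

/-- **The values of the two characters of a rank 3 action.** -/
theorem rank3_vals [Finite G] (h : R3 G X R k l) (r s f g : ℕ)
    (hc : (chkV k l fun a b => (a == r) && (b == s)) = true)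
    (hf : f * (r + s) + k = s * (k + l)) (hg : g * (r + s) = r * (k + l) + k) :
    ∃ χ₁ χ₂ : IrrCharacter G, charDegree (χ₁ : G → ℂ) = f ∧ charDegree (χ₂ : G → ℂ) = g ∧
      (∀ x, (fx G X x : ℂ) = 1 + (χ₁ : G → ℂ) x + (χ₂ : G → ℂ) x) ∧
      (∀ x, (χ₁ : G → ℂ) x * (r + s) = nR G R x + s * fx G X x - (k + s)) ∧
      (∀ x, (χ₂ : G → ℂ) x * (r + s) = r * fx G X x + k - (nR G R x + r)) ∧
      (∀ x y, x ≠ y → R x y → (Nat.card {z // R x z ∧ R z y} : ℤ) + r * s + s = k + r) ∧
      (∀ x y, x ≠ y → ¬ R x y → (Nat.card {z // R x z ∧ R z y} : ℤ) + r * s = k) := by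
  classical
  have hn := h.cardn
  have hfin : Finite X := by
    by_contra hcon
    rw [not_finite_iff_infinite] at hcon
    rw [Nat.card_eq_zero_of_infinite] at hn
    omega
  have := Fintype.ofFinite X
  obtain ⟨r', s', χ₁, χ₂, h1, h2, h3, h4, hpar⟩ := exists_vals' h _ hc
  rw [Bool.and_eq_true, beq_iff_eq, beq_iff_eq] at h1
  obtain ⟨rfl, rfl⟩ := h1
  have hN : ∀ x : G, ∑ y : X, adj R y (x • y) = (nR G R x : ℂ) := by
    intro x
    unfold adj nR
    rw [Finset.sum_boole, Nat.card_eq_fintype_card, Fintype.card_subtype]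
  have hrsC : ((r' + s' : ℕ) : ℂ) ≠ 0 := by exact_mod_cast h2
  push_cast at hrsC
  have hrs : (r' : ℤ) ≠ -(s' : ℤ) := by omega
  have e1 : ∀ x, (χ₁ : G → ℂ) x * (r' + s') = nR G R x + s' * fx G X x - (k + s') := by
    intro x
    rw [h3, ker_val h, hN]
    unfold fx
    push_cast
    have h5 : ((r' : ℂ) - -(s' : ℂ)) = r' + s' := by ring
    rw [h5]
    field_simp
    ring
  have e2 : ∀ x, (χ₂ : G → ℂ) x * (r' + s') = r' * fx G X x + k - (nR G R x + r') := by
    intro x
    rw [h4, ker_val h, hN]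
    unfold fx
    push_cast
    have h5 : (-(s' : ℂ) - (r' : ℂ)) = -(r' + s') := by ring
    rw [h5, inv_neg]
    field_simp
    ring
  have hN1 : nR G R 1 = 0 := by
    unfold nR
    rw [Nat.card_eq_zero]
    exact Or.inl ⟨fun x => h.irr x.1 (by simpa using x.2)⟩
  have hf1 : fx G X 1 = 1 + k + l := by
    unfold fx
    rw [MulAction.fixedBy_one_eq_univ, Nat.card_univ, hn]
  have hcom : ∀ x y, ∑ z, adj R x z * adj R z y = (Nat.card {z // R x z ∧ R z y} : ℂ) := by
    intro x y
    have h5 : ∀ z, adj R x z * adj R z y = if R x z ∧ R z y then (1 : ℂ) else 0 := by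
      intro z
      unfold adj
      by_cases h6 : R x z <;> by_cases h7 : R z y <;> simp [h6, h7]
    rw [Finset.sum_congr rfl fun z _ => h5 z, Finset.sum_boole, Nat.card_eq_fintype_card, Fintype.card_subtype]
  refine ⟨χ₁, χ₂, ?_, ?_, fun x => ?_, e1, e2, fun x y hxy hR => ?_, fun x y hxy hR => ?_⟩
  · have h5 := e1 1
    rw [irr_one_eq_charDegree χ₁.2, hN1, hf1] at h5
    have h6 : (f : ℂ) * (r' + s') + k = s' * (k + l) := by exact_mod_cast hf
    have h7 : (charDegree (χ₁ : G → ℂ) : ℂ) = f := by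
      refine mul_right_cancel₀ hrsC ?_
      rw [h5]
      push_cast
      linear_combination -h6
    exact_mod_cast h7
  · have h5 := e2 1
    rw [irr_one_eq_charDegree χ₂.2, hN1, hf1] at h5
    have h6 : (g : ℂ) * (r' + s') = r' * (k + l) + k := by exact_mod_cast hg
    have h7 : (charDegree (χ₂ : G → ℂ) : ℂ) = g := by
      refine mul_right_cancel₀ hrsC ?_
      rw [h5]
      push_cast
      linear_combination -h6
    exact_mod_cast h7
  · refine mul_right_cancel₀ hrsC ?_
    linear_combination -(e1 x) - (e2 x)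
  · have h5 := hpar x y
    rw [hcom] at h5
    unfold dia adj at h5
    rw [if_neg hxy, if_pos hR] at h5
    have h6 : ((Nat.card {z // R x z ∧ R z y} : ℂ)) + r' * s' + s' = k + r' := by rw [h5]; ring
    exact_mod_cast h6
  · have h5 := hpar x y
    rw [hcom] at h5
    unfold dia adj at h5
    rw [if_neg hxy, if_neg hR] at h5
    have h6 : ((Nat.card {z // R x z ∧ R z y} : ℂ)) + r' * s' = k := by rw [h5]; ring
    exact_mod_cast h6

/-- the trivial character -/
def one (G : Type u) [Group G] : IrrCharacter G := ⟨_, isIrrCharacter_one⟩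

/-- The permutation character is multiplicity free. -/
theorem mf_of_rank3 [Finite G] {χ₁ χ₂ : IrrCharacter G} (h1 : charDegree (χ₁ : G → ℂ) ≠ 1)
    (h2 : charDegree (χ₂ : G → ℂ) ≠ 1) (h3 : charDegree (χ₁ : G → ℂ) ≠ charDegree (χ₂ : G → ℂ))
    (h : ∀ x, (fx G X x : ℂ) = 1 + (χ₁ : G → ℂ) x + (χ₂ : G → ℂ) x) :
    Cfsg.Agent.H329.PQ.MF G X ![one G, χ₁, χ₂] := by
  have h0 : charDegree ((one G : IrrCharacter G) : G → ℂ) = 1 :=
    Cfsg.Agent.Blocks.Basic.charDegree_of_eq (by simp [one])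
  constructor
  · intro i j hij
    fin_cases i <;> fin_cases j <;> first
      | rfl
      | (exfalso
         have h4 := congrArg (fun χ : IrrCharacter G => charDegree (χ : G → ℂ)) hij
         simp [h0] at h4
         first
          | exact h1 h4
          | exact h2 h4
          | exact h3 h4
          | exact h1 h4.symm
          | exact h2 h4.symm
          | exact h3 h4.symm)
  · intro g
    have h4 := h g
    unfold fx at h4
    rw [h4, Fin.sum_univ_three]
    simp [one]

end Cfsg.Agent.H301.PQ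

private theorem dce_1f924720f5f8 : _root_.True := by
  try have : _root_.True := by simp only [_root_.Cfsg.Agent.H301.PQ.one.eq_1]
  exact _root_.True.intro
end
end
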