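import Cfsg.Agent.H301.PQ.RankThree
import Cfsg.Agent.Fischer.Abstract
import Cfsg.Agent.H332.EB.Fi23
import Cfsg.Agent.H187.FiTwoZ.Base
import Cfsg.Agent.FastGrp
import Cfsg.Agent.Prune
set_option linter.all false
prune_inst 0x7f00000000000000000000000000000000000000000000000000000000000000000000000000000000000000000000000000000000000000000000000000000000000000000000000000000000000000003fffffffffffffffffffffffffffbeffbdffffffff
open scoped Cfsg.Agent.FastGrp

/-!
# S4612: 3-transposition groups of rank 3 (helper301)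

`X` the class of transpositions, `k` the number of transpositions not commuting with a given one, `l` the number of the
others commuting with it. The values of the two nontrivial constituents of the permutation character at a transposition
and at the products of two transpositions.
-/

set_option autoImplicit false
set_option linter.unusedSectionVars false

namespace Cfsg.Agent.H301.PQ

open Cfsg Cfsg.Agent.Characters.Core Cfsg.Agent.H690.Spor.RankThree Cfsg.Agent.Fischer.Abstract

universe u v w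

section combinatorics

variable {G : Type u} {X : Type v} [Group G] [MulAction G X] (R : Rank3 G X)

theorem t_smul_comm {a y : X} (h : ¬ R.Com a y) : R.t a • y = R.t y • a := by
  apply R.t_injective
  rw [R.map_smul, R.map_smul, R.t_inv, R.t_inv]
  exact (R.com_or_braid a y).resolve_left h

theorem not_com_smul {a y : X} (h : ¬ R.Com a y) : ¬ R.Com y (R.t a • y) := by
  intro h1
  rw [t_smul_comm R h, ← R.com_smul (R.t y), smul_smul, R.sq', one_smul, R.t_smul_self] at h1
  exact h (R.com_symm h1)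

theorem prod_fix {a b : X} (hab : a ≠ b) (y : X) :
    (R.t a * R.t b) • y = y ↔ R.Com a y ∧ R.Com b y := by
  constructor
  · intro h
    have h1 : R.t b • y = R.t a • y := by
      have h2 := congrArg (fun z => R.t a • z) h
      simp only [smul_smul] at h2
      rw [← mul_assoc, R.sq', one_mul] at h2
      exact h2
    by_cases ha : R.Com a y
    · refine ⟨ha, ?_⟩
      rw [(R.t_smul_eq_iff a y).2 ha] at h1
      exact (R.t_smul_eq_iff b y).1 h1
    · exfalso
      have hb : ¬ R.Com b y := by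
        intro hb
        rw [(R.t_smul_eq_iff b y).2 hb] at h1
        exact ha ((R.t_smul_eq_iff a y).1 h1.symm)
      rw [t_smul_comm R ha, t_smul_comm R hb] at h1
      exact hab ((MulAction.injective (R.t y) h1).symm)
  · rintro ⟨ha, hb⟩
    rw [mul_smul, (R.t_smul_eq_iff b y).2 hb, (R.t_smul_eq_iff a y).2 ha]

theorem prod_com (a b y : X) : R.Com y ((R.t a * R.t b) • y) ↔
    (R.Com a y ∧ R.Com b y) ∨ (¬ R.Com a y ∧ ¬ R.Com b y ∧ R.Com a b) := by
  have h0 : R.Com y ((R.t a * R.t b) • y) ↔ R.Com (R.t a • y) (R.t b • y) := by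
    rw [← R.com_smul (R.t a) y, mul_smul, smul_smul (R.t a) (R.t a), R.sq', one_smul]
  rw [h0]
  by_cases ha : R.Com a y
  · rw [(R.t_smul_eq_iff a y).2 ha]
    by_cases hb : R.Com b y
    · rw [(R.t_smul_eq_iff b y).2 hb]
      exact ⟨fun _ => Or.inl ⟨ha, hb⟩, fun _ => R.com_self y⟩
    · exact ⟨fun h => absurd h (not_com_smul R hb), fun h => by (clear * - ha hb h; tauto)⟩
  · by_cases hb : R.Com b y
    · rw [(R.t_smul_eq_iff b y).2 hb]
      exact ⟨fun h => absurd (R.com_symm h) (not_com_smul R ha), fun h => by (clear * - ha hb h; tauto)⟩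
    · rw [t_smul_comm R ha, t_smul_comm R hb, R.com_smul]
      (clear * - ha hb; tauto)

theorem fx_t_eq (x : X) : fx G X (R.t x) = Nat.card {y // R.Com x y} :=
  Nat.card_congr (Equiv.subtypeEquivRight fun y => R.t_smul_eq_iff x y)

theorem nR_t_eq (x : X) : nR G (fun x y => ¬ R.Com x y) (R.t x) = Nat.card {y // ¬ R.Com x y} := by
  refine Nat.card_congr (Equiv.subtypeEquivRight fun y => ?_)
  constructor
  · intro h h1
    exact h (by rw [(R.t_smul_eq_iff x y).2 h1]; exact R.com_self y)
  · exact not_com_smul R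

theorem fx_prod_eq {a b : X} (hab : a ≠ b) :
    fx G X (R.t a * R.t b) = Nat.card {y // R.Com a y ∧ R.Com b y} :=
  Nat.card_congr (Equiv.subtypeEquivRight fun y => prod_fix R hab y)

theorem nR_prod_ncom {a b : X} (hab : ¬ R.Com a b) :
    nR G (fun x y => ¬ R.Com x y) (R.t a * R.t b) = Nat.card {y // ¬ (R.Com a y ∧ R.Com b y)} := by
  refine Nat.card_congr (Equiv.subtypeEquivRight fun y => ?_)
  show ¬ R.Com y ((R.t a * R.t b) • y) ↔ _
  rw [prod_com]
  tauto

theorem nR_prod_com {a b : X} (hab : R.Com a b) :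
    nR G (fun x y => ¬ R.Com x y) (R.t a * R.t b) =
      Nat.card {y // (R.Com a y ∧ ¬ R.Com b y) ∨ (¬ R.Com a y ∧ R.Com b y)} := by
  refine Nat.card_congr (Equiv.subtypeEquivRight fun y => ?_)
  show ¬ R.Com y ((R.t a * R.t b) • y) ↔ _
  rw [prod_com]
  tauto

/-! ### the numbers -/

variable [Finite X] {k l : ℕ}

theorem card_com_add (x : X) (hk : Nat.card {y // ¬ R.Com x y} = k) (hn : Nat.card X = 1 + k + l) :
    Nat.card {y // R.Com x y} = 1 + l := by
  classical
  have := Fintype.ofFinite X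
  have h1 := Finset.card_filter_add_card_filter_not (s := (Finset.univ : Finset X)) (fun y => R.Com x y)
  rw [Nat.card_eq_fintype_card, Fintype.card_subtype] at hk ⊢
  rw [Finset.card_univ, ← Nat.card_eq_fintype_card, hn] at h1
  omega

theorem card_both (a b : X) (hka : Nat.card {y // ¬ R.Com a y} = k) (hkb : Nat.card {y // ¬ R.Com b y} = k) {c : ℕ}
    (hc : Nat.card {z // ¬ R.Com a z ∧ ¬ R.Com z b} = c) :
    Nat.card {y // R.Com a y ∧ R.Com b y} + 2 * k = Nat.card X + c := by
  classical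
  have := Fintype.ofFinite X
  rw [Nat.card_eq_fintype_card, Fintype.card_subtype] at hka hkb hc ⊢
  rw [Nat.card_eq_fintype_card]
  have e0 : (Finset.univ.filter fun z => ¬ R.Com a z ∧ ¬ R.Com z b) =
      (Finset.univ.filter fun z => ¬ R.Com a z) ∩ (Finset.univ.filter fun z => ¬ R.Com b z) := by
    ext z
    simp only [Finset.mem_filter, Finset.mem_univ, true_and, Finset.mem_inter]
    rw [R.com_comm (x := z)]
  have e1 : (Finset.univ.filter fun z => R.Com a z ∧ R.Com b z) =
      ((Finset.univ.filter fun z => ¬ R.Com a z) ∪ (Finset.univ.filter fun z => ¬ R.Com b z))ᶜ := by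
    ext z
    simp only [Finset.mem_filter, Finset.mem_univ, true_and, Finset.mem_compl, Finset.mem_union]
    (clear * -; tauto)
  rw [e0] at hc
  have h1 := Finset.card_union_add_card_inter (Finset.univ.filter fun z => ¬ R.Com a z)
    (Finset.univ.filter fun z => ¬ R.Com b z)
  have h2 := Finset.card_add_card_compl ((Finset.univ.filter fun z => ¬ R.Com a z) ∪
    (Finset.univ.filter fun z => ¬ R.Com b z))
  rw [e1]
  omega

theorem card_xor (a b : X) (ha : Nat.card {y // R.Com a y} = 1 + l) (hb : Nat.card {y // R.Com b y} = 1 + l) :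
    Nat.card {y // (R.Com a y ∧ ¬ R.Com b y) ∨ (¬ R.Com a y ∧ R.Com b y)} +
      2 * Nat.card {y // R.Com a y ∧ R.Com b y} = 2 * (1 + l) := by
  classical
  have := Fintype.ofFinite X
  rw [Nat.card_eq_fintype_card, Fintype.card_subtype] at ha hb ⊢
  rw [Nat.card_eq_fintype_card, Fintype.card_subtype]
  have e1 : (Finset.univ.filter fun y => (R.Com a y ∧ ¬ R.Com b y) ∨ (¬ R.Com a y ∧ R.Com b y)) =
      (Finset.univ.filter fun y => R.Com a y ∧ ¬ R.Com b y) ∪ (Finset.univ.filter fun y => ¬ R.Com a y ∧ R.Com b y) :=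
    Finset.filter_or _ _ _
  have e2 : (Finset.univ.filter fun y => R.Com a y ∧ R.Com b y).card +
      (Finset.univ.filter fun y => R.Com a y ∧ ¬ R.Com b y).card = 1 + l := by
    rw [← ha, ← Finset.filter_filter, ← Finset.filter_filter]
    exact Finset.card_filter_add_card_filter_not _
  have e3 : (Finset.univ.filter fun y => R.Com a y ∧ R.Com b y).card +
      (Finset.univ.filter fun y => ¬ R.Com a y ∧ R.Com b y).card = 1 + l := by
    have e4 : (Finset.univ.filter fun y => R.Com a y ∧ R.Com b y) = (Finset.univ.filter fun y => R.Com b y).filter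
        (fun y => R.Com a y) := by
      rw [Finset.filter_filter]
      refine Finset.filter_congr fun y _ => ?_
      (clear * - G X R a b y; tauto)
    have e5 : (Finset.univ.filter fun y => ¬ R.Com a y ∧ R.Com b y) = (Finset.univ.filter fun y => R.Com b y).filter
        (fun y => ¬ R.Com a y) := by
      rw [Finset.filter_filter]
      refine Finset.filter_congr fun y _ => ?_
      (clear * - G X R a b y; tauto)
    rw [← hb, e4, e5]
    exact Finset.card_filter_add_card_filter_not _
  rw [e1, Finset.card_union_of_disjoint]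
  · omega
  · rw [Finset.disjoint_left]
    intro y h1 h2
    rw [Finset.mem_filter] at h1 h2
    exact h2.2.1 h1.2.1

theorem card_not_both (a b : X) : Nat.card {y // ¬ (R.Com a y ∧ R.Com b y)} +
    Nat.card {y // R.Com a y ∧ R.Com b y} = Nat.card X := by
  classical
  have := Fintype.ofFinite X
  rw [Nat.card_eq_fintype_card, Fintype.card_subtype, Nat.card_eq_fintype_card, Fintype.card_subtype,
    Nat.card_eq_fintype_card, add_comm]
  exact Finset.card_filter_add_card_filter_not _

end combinatorics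

section values

variable {G : Type u} {X : Type v} [Group G] [MulAction G X] (R : Rank3 G X) {Γ : Type w} [Group Γ] [MulAction Γ X]
  {k l : ℕ}

/-- **The values of the two characters.** -/
theorem fischer_vals [Finite Γ] (φ : Γ → G) (hφ : ∀ (γ : Γ) (x : X), γ • x = φ γ • x)
    (h : R3 Γ X (fun x y => ¬ R.Com x y) k l) (r s f g : ℕ)
    (hc : (chkV k l fun a b => (a == r) && (b == s)) = true)
    (hf : f * (r + s) + k = s * (k + l)) (hg : g * (r + s) = r * (k + l) + k) :
    ∃ χ₁ χ₂ : IrrCharacter Γ, charDegree (χ₁ : Γ → ℂ) = f ∧ charDegree (χ₂ : Γ → ℂ) = g ∧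
      (∀ x, (fx Γ X x : ℂ) = 1 + (χ₁ : Γ → ℂ) x + (χ₂ : Γ → ℂ) x) ∧
      (∀ γ x, φ γ = R.t x → (χ₁ : Γ → ℂ) γ * (r + s) = s * l ∧ (χ₂ : Γ → ℂ) γ * (r + s) = r * l) ∧
      (∀ γ a b, a ≠ b → R.Com a b → φ γ = R.t a * R.t b →
        (χ₁ : Γ → ℂ) γ * (r + s) = 2 * r * s + s * (1 + l - r * s) - (k + s) ∧
        (χ₂ : Γ → ℂ) γ * (r + s) = r * (1 + l - r * s) + k - (2 * r * s + r)) ∧
      (∀ γ a b, ¬ R.Com a b → φ γ = R.t a * R.t b →
        (χ₁ : Γ → ℂ) γ * (r + s) = (k + r * s - r + s) + s * (1 + l - r * s + r - s) - (k + s) ∧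
        (χ₂ : Γ → ℂ) γ * (r + s) = r * (1 + l - r * s + r - s) + k - ((k + r * s - r + s) + r)) := by
  obtain ⟨χ₁, χ₂, d1, d2, hfix, v1, v2, p1, p2⟩ := rank3_vals h r s f g hc hf hg
  have hn := h.cardn
  have hfin : Finite X := by
    by_contra hcon
    rw [not_finite_iff_infinite] at hcon
    rw [Nat.card_eq_zero_of_infinite] at hn
    omega
  have hfx : ∀ γ : Γ, fx Γ X γ = fx G X (φ γ) := fun γ =>
    Nat.card_congr (Equiv.subtypeEquivRight fun y => by
      show γ • y = y ↔ φ γ • y = y
      rw [hφ])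
  have hnR : ∀ γ : Γ, nR Γ (fun x y => ¬ R.Com x y) γ = nR G (fun x y => ¬ R.Com x y) (φ γ) := fun γ =>
    Nat.card_congr (Equiv.subtypeEquivRight fun y => by
      show ¬ R.Com y (γ • y) ↔ ¬ R.Com y (φ γ • y)
      rw [hφ])
  have hC : ∀ x, Nat.card {y // R.Com x y} = 1 + l := fun x => card_com_add R x (h.cardk x) hn
  refine ⟨χ₁, χ₂, d1, d2, hfix, fun γ x hγ => ?_, fun γ a b hab hcab hγ => ?_, fun γ a b hab hγ => ?_⟩
  · have e1 : fx Γ X γ = 1 + l := by rw [hfx, hγ, fx_t_eq, hC]
    have e2 : nR Γ (fun x y => ¬ R.Com x y) γ = k := by rw [hnR, hγ, nR_t_eq, h.cardk]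
    rw [v1, v2, e1, e2]
    push_cast
    constructor <;> ring
  · obtain ⟨c, hc⟩ : ∃ c, c = Nat.card {z // ¬ R.Com a z ∧ ¬ R.Com z b} := ⟨_, rfl⟩
    have e0 := p2 a b hab (fun h => h hcab)
    rw [← hc] at e0
    have e1 := card_both R a b (h.cardk a) (h.cardk b) hc.symm
    have e2 := card_xor R a b (hC a) (hC b)
    have e3 : fx Γ X γ = Nat.card {y // R.Com a y ∧ R.Com b y} := by rw [hfx, hγ, fx_prod_eq R hab]
    have e4 : nR Γ (fun x y => ¬ R.Com x y) γ =
        Nat.card {y // (R.Com a y ∧ ¬ R.Com b y) ∨ (¬ R.Com a y ∧ R.Com b y)} := by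
      rw [hnR, hγ, nR_prod_com R hcab]
    rw [← e3] at e1 e2
    rw [← e4] at e2
    rw [hn] at e1
    have f1 : (fx Γ X γ : ℂ) = 1 + l - r * s := by
      have g1 : (fx Γ X γ : ℤ) = 1 + l - r * s := by
        have g2 : ((fx Γ X γ + 2 * k : ℕ) : ℤ) = ((1 + k + l + c : ℕ) : ℤ) := by rw [e1]
        push_cast at g2
        linarith only [e0, e1]
      exact_mod_cast g1
    have f2 : (nR Γ (fun x y => ¬ R.Com x y) γ : ℂ) = 2 * r * s := by
      have g2 : ((nR Γ (fun x y => ¬ R.Com x y) γ : ℕ) : ℂ) + 2 * (fx Γ X γ : ℂ) = 2 * (1 + l) := by exact_mod_cast e2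
      rw [f1] at g2
      linear_combination g2
    rw [v1, v2, f1, f2]
    constructor <;> ring
  · obtain ⟨c, hc⟩ : ∃ c, c = Nat.card {z // ¬ R.Com a z ∧ ¬ R.Com z b} := ⟨_, rfl⟩
    have hne : a ≠ b := by
      rintro rfl
      exact hab (R.com_self a)
    have e0 := p1 a b hne hab
    rw [← hc] at e0
    have e1 := card_both R a b (h.cardk a) (h.cardk b) hc.symm
    have e2 := card_not_both R a b
    have e3 : fx Γ X γ = Nat.card {y // R.Com a y ∧ R.Com b y} := by rw [hfx, hγ, fx_prod_eq R hne]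
    have e4 : nR Γ (fun x y => ¬ R.Com x y) γ = Nat.card {y // ¬ (R.Com a y ∧ R.Com b y)} := by
      rw [hnR, hγ, nR_prod_ncom R hab]
    rw [← e3] at e1 e2
    rw [← e4] at e2
    rw [hn] at e1 e2
    have f1 : (fx Γ X γ : ℂ) = 1 + l - r * s + r - s := by
      have g1 : (fx Γ X γ : ℤ) = 1 + l - r * s + r - s := by
        have g2 : ((fx Γ X γ + 2 * k : ℕ) : ℤ) = ((1 + k + l + c : ℕ) : ℤ) := by rw [e1]
        push_cast at g2
        linarith only [e0, e1]
      exact_mod_cast g1
    have f2 : (nR Γ (fun x y => ¬ R.Com x y) γ : ℂ) = k + r * s - r + s := by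
      have g2 : ((nR Γ (fun x y => ¬ R.Com x y) γ : ℕ) : ℂ) + (fx Γ X γ : ℂ) = 1 + k + l := by exact_mod_cast e2
      rw [f1] at g2
      linear_combination g2
    rw [v1, v2, f1, f2]
    constructor <;> ring

theorem index_dvd [Finite Γ] [Finite X] {Y : Set (X × X)} (φ : Γ →* G) (hφi : Function.Injective φ)
    (hφ : ∀ (γ : Γ) (x : X), γ • x = φ γ • x) {γ : Γ} {a b : X} (hγ : φ γ = R.t a * R.t b)
    (hY : ∀ z, z ∈ Y ↔ ∃ g : Γ, g • (a, b) = z) : (Subgroup.centralizer ({γ} : Set Γ)).index ∣ Y.ncard := by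
  have h1 : MulAction.stabilizer Γ (a, b) ≤ Subgroup.centralizer ({γ} : Set Γ) := by
    intro g hg
    rw [MulAction.mem_stabilizer_iff] at hg
    have ha : g • a = a := congrArg Prod.fst hg
    have hb : g • b = b := congrArg Prod.snd hg
    rw [Subgroup.mem_centralizer_singleton_iff]
    apply hφi
    rw [map_mul, map_mul, hγ]
    rw [hφ] at ha hb
    have ha' := R.smul_comm_of_fix ha
    have hb' := R.smul_comm_of_fix hb
    calc φ g * (R.t a * R.t b) = (φ g * R.t a) * R.t b := by group
      _ = R.t a * (φ g * R.t b) := by rw [ha']; group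
      _ = R.t a * R.t b * φ g := by rw [hb']; group
  have h2 : (MulAction.stabilizer Γ (a, b)).index = Y.ncard := by
    rw [MulAction.index_stabilizer]
    congr 1
    ext z
    rw [hY]
    rfl
  rw [← h2]
  exact Subgroup.index_dvd_of_le h1

theorem ncard_rel [Finite X] {S : X → X → Prop} {m : ℕ} (hS : ∀ x, Nat.card {y // S x y} = m) :
    ({z : X × X | S z.1 z.2} : Set (X × X)).ncard = Nat.card X * m := by
  classical
  have := Fintype.ofFinite X
  rw [← Nat.card_coe_set_eq]
  have e : ({z : X × X | S z.1 z.2} : Set (X × X)) ≃ (Σ x : X, {y // S x y}) :=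
    ⟨fun z => ⟨z.1.1, z.1.2, z.2⟩, fun z => ⟨(z.1, z.2.1), z.2.2⟩, fun z => rfl, fun z => rfl⟩
  rw [Nat.card_congr e, Nat.card_sigma]
  simp only [hS, Finset.sum_const, smul_eq_mul, Finset.card_univ, Nat.card_eq_fintype_card]

/-- the class of a product of two commuting transpositions -/
theorem index_dvd_com [Finite Γ] (φ : Γ →* G) (hφi : Function.Injective φ)
    (hφ : ∀ (γ : Γ) (x : X), γ • x = φ γ • x) (h : R3 Γ X (fun x y => ¬ R.Com x y) k l) {γ : Γ} {a b : X}
    (hab : a ≠ b) (hc : R.Com a b) (hγ : φ γ = R.t a * R.t b) :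
    (Subgroup.centralizer ({γ} : Set Γ)).index ∣ Nat.card X * l := by
  classical
  have hn := h.cardn
  have hfin : Finite X := by
    by_contra hcon
    rw [not_finite_iff_infinite] at hcon
    rw [Nat.card_eq_zero_of_infinite] at hn
    omega
  have := Fintype.ofFinite X
  have hm : ∀ x, Nat.card {y // x ≠ y ∧ R.Com x y} = l := by
    intro x
    have h1 := card_com_add R x (h.cardk x) hn
    have h2 : Nat.card {y // x ≠ y ∧ R.Com x y} + 1 = Nat.card {y // R.Com x y} := by
      rw [Nat.card_eq_fintype_card, Fintype.card_subtype, Nat.card_eq_fintype_card, Fintype.card_subtype]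
      have h3 : (Finset.univ.filter fun y => R.Com x y) = insert x (Finset.univ.filter fun y => x ≠ y ∧ R.Com x y) := by
        ext y
        simp only [Finset.mem_filter, Finset.mem_univ, true_and, Finset.mem_insert]
        constructor
        · intro h4
          by_cases h5 : y = x
          · exact Or.inl h5
          · exact Or.inr ⟨Ne.symm h5, h4⟩
        · rintro (rfl | ⟨-, h4⟩)
          · exact R.com_self _
          · exact h4
      rw [h3, Finset.card_insert_of_notMem]
      simp only [_root_.ne_eq, _root_.Finset.mem_filter, _root_.Finset.mem_univ, _root_.not_true_eq_false, _root_.false_and, _root_.and_false, _root_.not_false_eq_true]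
    omega
  have h1 := index_dvd R (Y := {z : X × X | z.1 ≠ z.2 ∧ R.Com z.1 z.2}) φ hφi hφ hγ (fun z => by
    constructor
    · rintro ⟨h2, h3⟩
      obtain ⟨g, h4, h5⟩ := h.two a b z.1 z.2 hab (fun h => h hc) h2 (fun h => h h3)
      exact ⟨g, Prod.ext h4 h5⟩
    · rintro ⟨g, rfl⟩
      refine ⟨fun h2 => hab (MulAction.injective g h2), ?_⟩
      show R.Com (g • a) (g • b)
      rw [hφ, hφ, R.com_smul]
      exact hc)
  rwa [ncard_rel hm] at h1

/-- the class of a product of two noncommuting transpositions -/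
theorem index_dvd_ncom [Finite Γ] (φ : Γ →* G) (hφi : Function.Injective φ)
    (hφ : ∀ (γ : Γ) (x : X), γ • x = φ γ • x) (h : R3 Γ X (fun x y => ¬ R.Com x y) k l) {γ : Γ} {a b : X}
    (hc : ¬ R.Com a b) (hγ : φ γ = R.t a * R.t b) :
    (Subgroup.centralizer ({γ} : Set Γ)).index ∣ Nat.card X * k := by
  have hn := h.cardn
  have hfin : Finite X := by
    by_contra hcon
    rw [not_finite_iff_infinite] at hcon
    rw [Nat.card_eq_zero_of_infinite] at hn
    omega
  have h1 := index_dvd R (Y := {z : X × X | ¬ R.Com z.1 z.2}) φ hφi hφ hγ (fun z => by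
    constructor
    · intro h2
      obtain ⟨g, h4, h5⟩ := h.one a b z.1 z.2 hc h2
      exact ⟨g, Prod.ext h4 h5⟩
    · rintro ⟨g, rfl⟩
      show ¬ R.Com (g • a) (g • b)
      rw [hφ, hφ, R.com_smul]
      exact hc)
  rwa [ncard_rel h.cardk] at h1

/-- the rank 3 structure of a subgroup with the same orbits on pairs -/
theorem r3_sub (N : Subgroup G) (hN : Cfsg.Agent.H187.FiTwoZ.Same N X)
    (hk : ∀ x, Nat.card {y // ¬ R.Com x y} = k) (hk0 : 0 < k) (hl0 : 0 < l)
    (hn : Nat.card X = 1 + k + l) : R3 N X (fun x y => ¬ R.Com x y) k l := by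
  have h := Cfsg.Agent.H332.EB.FiTh.r3_of R hk hk0 hl0 hn
  refine ⟨⟨fun x y => ?_⟩, h.symm, h.irr, fun g x y h' => h.inv (g : G) x y h', fun x y x' y' h1 h2 => ?_,
    fun x y x' y' h1 h2 h3 h4 => ?_, hk, hk0, hl0, hn⟩
  · obtain ⟨g, hg⟩ := h.trans.exists_smul_eq x y
    obtain ⟨u, hu, h1, -⟩ := hN g x x
    exact ⟨⟨u, hu⟩, h1.trans hg⟩
  · obtain ⟨g, hg1, hg2⟩ := h.one x y x' y' h1 h2
    obtain ⟨u, hu, h3, h4⟩ := hN g x y
    exact ⟨⟨u, hu⟩, h3.trans hg1, h4.trans hg2⟩
  · obtain ⟨g, hg1, hg2⟩ := h.two x y x' y' h1 h2 h3 h4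
    obtain ⟨u, hu, h5, h6⟩ := hN g x y
    exact ⟨⟨u, hu⟩, h5.trans hg1, h6.trans hg2⟩

end values

end Cfsg.Agent.H301.PQ
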